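import Cfsg.Agent.RuD.IdxNetW_m3
import Cfsg.Agent.KFacts.Ru.Fast
import Cfsg.Agent.Prune
set_option linter.all false

-- part: CpAutRuFive/Eng
section
set_option linter.all false
open scoped Cfsg.Agent.FastGrp

/-!
# Centralisers of elements of order 5 in the Rudvalis group: the engine (helper21)

In the model `RuOrder.H` (automorphism group of the graph on 4060 points): an element commuting with the word `w` leaves
the mask of the points adjacent to their image under `w` invariant (`inv_adj`). `run` is `BitNet.ub` with the additional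
instruction `pt`: a fixed point gives five fixed points, the images under `w`.
-/

set_option autoImplicit false
set_option maxRecDepth 100000
set_option exponentiation.threshold 5000

namespace Cfsg.Agent.CpAutRuFive.Eng

open Cfsg.Agent.Lib Cfsg.Agent.Lib.BitNet Cfsg.Agent.SporadicB Cfsg.Agent.SporadicB.RuData Cfsg.Agent.SporadicB.RuOrder
open Cfsg.Agent.RuD.Data Cfsg.Agent.SporRec.TCUpperCert Cfsg.Agent.SporRec.R3.Kernel Cfsg.Agent.RuD.Letters
open Cfsg.Agent.KFacts.Ru.CentEng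
open Cfsg.Agent.Lib.BitNetSimple (force force_eq tb tb_eq)

/-! ### a word as twelve masks -/

/-- `M` is the mask of the points adjacent to their image under the word -/
noncomputable def chkAdj (w : List ℕ) (M : ℕ) : Bool :=
  Nat.beq (Nat.land KFacts.RuF.fl M) (KFacts.RuF.adjF w)

theorem testBit_adj {w : List ℕ} {M : ℕ} (h : chkAdj w M = true) (i : Fin 4060) :
    M.testBit i = (row i).testBit (((wprod ml w : RuOrder.H) : Equiv.Perm (Fin 4060)) i : Fin 4060) := by
  have h1 : KFacts.RuF.fl &&& M = KFacts.RuF.adjF w := Nat.eq_of_beq_eq_true h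
  rw [← KFacts.RuF.adjF_bit, ← h1, Nat.testBit_and, KFacts.RuF.testBit_fl, decide_eq_true i.2, Bool.true_and]

/-- the mask is invariant under the elements commuting with the word -/
theorem inv_adj {w : List ℕ} {M : ℕ} (h : chkAdj w M = true) {σ : Equiv.Perm (Fin 4060)} (hσ : σ ∈ RuOrder.H)
    (hc : ∀ i, σ (((wprod ml w : RuOrder.H) : Equiv.Perm (Fin 4060)) i) =
      ((wprod ml w : RuOrder.H) : Equiv.Perm (Fin 4060)) (σ i)) : Inv σ M := by
  intro i
  rw [testBit_adj h, testBit_adj h, ← hc]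
  exact hσ i _

/-- instructions -/
inductive St
  | and (i j : ℕ)
  | diff (i j : ℕ)
  | cnt (i c : ℕ)
  | pt (i p : ℕ)
  | base (i b : ℕ)

/-- the rows of `p, w p, …, w⁴ p` -/
noncomputable def orbC (w : List ℕ) (p : ℕ) (f : ℕ → ℕ → ℕ → ℕ → ℕ → Option ℕ) : Option ℕ :=
  force (KFacts.RuF.evF w p) fun p1 => force (KFacts.RuF.evF w p1) fun p2 => force (KFacts.RuF.evF w p2) fun p3 =>
    force (KFacts.RuF.evF w p3) fun p4 =>
    force (row p) fun r0 => force (row p1) fun r1 => force (row p2) fun r2 => force (row p3) fun r3 =>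
      force (row p4) fun r4 => f r0 r1 r2 r3 r4

theorem orbC_eq (w : List ℕ) (p : ℕ) (f : ℕ → ℕ → ℕ → ℕ → ℕ → Option ℕ) :
    orbC w p f = f (row p) (row (evalK w p)) (row (evalK w (evalK w p))) (row (evalK w (evalK w (evalK w p))))
      (row (evalK w (evalK w (evalK w (evalK w p))))) := by
  rw [orbC]
  simp only [force_eq, KFacts.RuF.evF_eq]

/-- run the certificate; the result is an upper bound for the order -/
noncomputable def run (w : List ℕ) : List St → List ℕ → Option ℕ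
  | [], st => bif KFacts.RuF.sepB st then some 1 else none
  | St.and i j :: l, st => force (Nat.land (st.getD i 0) (st.getD j 0)) fun m => run w l (m :: st)
  | St.diff i j :: l, st => force (Nat.xor (st.getD i 0) (Nat.land (st.getD i 0) (st.getD j 0))) fun m =>
      run w l (m :: st)
  | St.cnt i c :: l, st => force (KFacts.RuF.cntF (st.getD i 0) c) fun m => run w l (m :: st)
  | St.pt i p :: l, st =>
      bif Nat.beq (st.getD i 0) (Nat.pow 2 p) && Nat.blt p 4060 then
        orbC w p fun r0 r1 r2 r3 r4 => run w l (r0 :: r1 :: r2 :: r3 :: r4 :: st)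
      else none
  | St.base i b :: l, st =>
      bif Nat.blt b 4060 && Nat.testBit (st.getD i 0) b then
        match orbC w b fun r0 r1 r2 r3 r4 => run w l (r0 :: r1 :: r2 :: r3 :: r4 :: st) with
        | some N => some (Nat.mul (KFacts.RuF.popF (st.getD i 0)) N)
        | none => none
      else none

/-- the five rows are invariant -/
theorem inv_orb {w : List ℕ} {σ : Equiv.Perm (Fin 4060)} (hσ : σ ∈ RuOrder.H)
    (hc : ∀ i, σ (((wprod ml w : RuOrder.H) : Equiv.Perm (Fin 4060)) i) =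
      ((wprod ml w : RuOrder.H) : Equiv.Perm (Fin 4060)) (σ i)) {st : List ℕ} (hst : ∀ x ∈ st, Inv σ x) {p : Fin 4060}
    (hp : σ p = p) : ∀ x ∈ row p :: row (evalK w p) :: row (evalK w (evalK w p)) ::
      row (evalK w (evalK w (evalK w p))) :: row (evalK w (evalK w (evalK w (evalK w p)))) :: st, Inv σ x := by
  have key : ∀ q : Fin 4060, σ q = q → ∃ q' : Fin 4060, (q' : ℕ) = evalK w q ∧ σ q' = q' := by
    intro q hq
    refine ⟨((wprod ml w : RuOrder.H) : Equiv.Perm (Fin 4060)) q, evalK_eq w q, ?_⟩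
    rw [hc, hq]
  obtain ⟨p1, e1, h1⟩ := key p hp
  obtain ⟨p2, e2, h2⟩ := key p1 h1
  obtain ⟨p3, e3, h3⟩ := key p2 h2
  obtain ⟨p4, e4, h4⟩ := key p3 h3
  rw [← e1, ← e2, ← e3, ← e4]
  intro x hx
  simp only [List.mem_cons] at hx
  rcases hx with rfl | rfl | rfl | rfl | rfl | hx
  · exact Inv.row hσ hp
  · exact Inv.row hσ h1
  · exact Inv.row hσ h2
  · exact Inv.row hσ h3
  · exact Inv.row hσ h4
  · exact hst x hx

theorem run_sound {w : List ℕ} : ∀ (l : List St) (st : List ℕ) (N : ℕ), run w l st = some N →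
    ∀ H : Subgroup (Equiv.Perm (Fin 4060)), H ≤ RuOrder.H →
      (∀ σ ∈ H, ∀ i, σ (((wprod ml w : RuOrder.H) : Equiv.Perm (Fin 4060)) i) =
        ((wprod ml w : RuOrder.H) : Equiv.Perm (Fin 4060)) (σ i)) →
      (∀ σ ∈ H, ∀ x ∈ st, Inv σ x) → Nat.card H ≤ N
  | [], st, N, h, H, hH, hc, hI => by
    have e : run w [] st = bif KFacts.RuF.sepB st then some 1 else none := rfl
    rw [e] at h
    by_cases hs : KFacts.RuF.sepB st = true
    · rw [hs, cond_true, Option.some.injEq] at h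
      subst h
      have hbot : H = ⊥ := (Subgroup.eq_bot_iff_forall H).2 fun σ hσ => KFacts.RuF.sepB_sound hs (hH hσ) (hI σ hσ)
      rw [hbot, Nat.card_eq_fintype_card]
      simp
    · rw [Bool.not_eq_true] at hs
      rw [hs, cond_false] at h
      exact absurd h (by simp)
  | St.and i j :: l, st, N, h, H, hH, hc, hI => by
    have e : run w (St.and i j :: l) st = force (Nat.land (st.getD i 0) (st.getD j 0)) fun m => run w l (m :: st) :=
      rfl
    rw [e, force_eq] at h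
    refine run_sound l _ N h H hH hc (fun σ hσ x hx => ?_)
    rcases List.mem_cons.1 hx with rfl | hx
    · exact inv_land (inv_getD (hI σ hσ) i) (inv_getD (hI σ hσ) j)
    · exact hI σ hσ x hx
  | St.diff i j :: l, st, N, h, H, hH, hc, hI => by
    have e : run w (St.diff i j :: l) st =
      force (Nat.xor (st.getD i 0) (Nat.land (st.getD i 0) (st.getD j 0))) fun m => run w l (m :: st) := rfl
    rw [e, force_eq] at h
    refine run_sound l _ N h H hH hc (fun σ hσ x hx => ?_)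
    rcases List.mem_cons.1 hx with rfl | hx
    · exact inv_xor (inv_getD (hI σ hσ) i) (inv_land (inv_getD (hI σ hσ) i) (inv_getD (hI σ hσ) j))
    · exact hI σ hσ x hx
  | St.cnt i c :: l, st, N, h, H, hH, hc, hI => by
    have e : run w (St.cnt i c :: l) st = force (KFacts.RuF.cntF (st.getD i 0) c) fun m => run w l (m :: st) := rfl
    rw [e, force_eq, KFacts.RuF.cntF_eq] at h
    refine run_sound l _ N h H hH hc (fun σ hσ x hx => ?_)
    rcases List.mem_cons.1 hx with rfl | hx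
    · exact Inv.cntSet (by norm_num) (hH hσ) (inv_getD (hI σ hσ) i) c
    · exact hI σ hσ x hx
  | St.pt i p :: l, st, N, h, H, hH, hc, hI => by
    have e : run w (St.pt i p :: l) st =
      bif Nat.beq (st.getD i 0) (Nat.pow 2 p) && Nat.blt p 4060 then
        orbC w p fun r0 r1 r2 r3 r4 => run w l (r0 :: r1 :: r2 :: r3 :: r4 :: st)
      else none := rfl
    rw [e] at h
    by_cases hb : (Nat.beq (st.getD i 0) (Nat.pow 2 p) && Nat.blt p 4060) = true
    · rw [hb, cond_true, orbC_eq] at h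
      rw [Bool.and_eq_true] at hb
      have h1 : st.getD i 0 = 2 ^ p := Nat.eq_of_beq_eq_true hb.1
      have h2 : p < 4060 := by
        have := hb.2
        rw [Nat.blt_eq] at this
        exact this
      refine run_sound l _ N h H hH hc (fun σ hσ => ?_)
      have h3 : Inv σ (2 ^ ((⟨p, h2⟩ : Fin 4060) : ℕ)) := by
        have := inv_getD (hI σ hσ) i
        rw [h1] at this
        exact this
      exact inv_orb (p := ⟨p, h2⟩) (hH hσ) (hc σ hσ) (hI σ hσ) h3.fix
    · rw [Bool.not_eq_true] at hb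
      rw [hb, cond_false] at h
      exact absurd h (by simp)
  | St.base i b :: l, st, N, h, H, hH, hc, hI => by
    have e : run w (St.base i b :: l) st =
      bif Nat.blt b 4060 && Nat.testBit (st.getD i 0) b then
        match orbC w b fun r0 r1 r2 r3 r4 => run w l (r0 :: r1 :: r2 :: r3 :: r4 :: st) with
        | some N => some (Nat.mul (KFacts.RuF.popF (st.getD i 0)) N)
        | none => none
      else none := rfl
    rw [e] at h
    by_cases hb : (Nat.blt b 4060 && Nat.testBit (st.getD i 0) b) = true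
    · rw [hb, cond_true, orbC_eq] at h
      rw [Bool.and_eq_true] at hb
      have h2 : b < 4060 := by
        have := hb.1
        rw [Nat.blt_eq] at this
        exact this
      rcases hu : run w l (row b :: row (evalK w b) :: row (evalK w (evalK w b)) ::
        row (evalK w (evalK w (evalK w b))) :: row (evalK w (evalK w (evalK w (evalK w b)))) :: st) with _ | M
      · rw [hu] at h
        exact absurd h (by simp)
      · rw [hu] at h
        have h3 : popc 12 (st.getD i 0) * M = N := by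
          have := h
          simp only [Option.some.injEq] at this
          rw [← KFacts.RuF.popF_eq]
          exact this
        rw [card_eq_orbit_mul H ⟨b, h2⟩, ← h3]
        apply Nat.mul_le_mul
        · refine le_trans ?_ (card_pts_le (n := 4060) (by norm_num) _)
          rw [Nat.card_coe_set_eq, ← Set.ncard_coe_finset]
          apply Set.ncard_le_ncard
          · rintro x ⟨σ, rfl⟩
            rw [Finset.mem_coe, mem_pts]
            have := inv_getD (hI σ.1 σ.2) i ⟨b, h2⟩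
            rw [hb.2] at this
            exact this
          · exact Set.toFinite _
        · refine run_sound l _ M hu _ (inf_le_left.trans hH) (fun σ hσ => hc σ hσ.1) (fun σ hσ => ?_)
          have hfix : σ (⟨b, h2⟩ : Fin 4060) = ⟨b, h2⟩ := hσ.2
          exact inv_orb (p := ⟨b, h2⟩) (hH hσ.1) (hc σ hσ.1) (hI σ hσ.1) hfix
    · rw [Bool.not_eq_true] at hb
      rw [hb, cond_false] at h
      exact absurd h (by simp)

/-- **the certificate**: `ms` are masks of points adjacent to their image under words of `cs` -/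
theorem card_le_of_run {w : List ℕ} {cs : List (List ℕ)} (hw : w ∈ cs) {ms : List ℕ}
    (hm : ∀ m ∈ ms, ∃ v : List ℕ, (∀ x ∈ Cen cs, x * wprod ml v = wprod ml v * x) ∧ chkAdj v m = true)
    {l : List St} {N : ℕ} (h : run w l ms = some N) : Nat.card (Cen cs) ≤ N := by
  have key : ∀ (v : List ℕ) (x : RuOrder.H), x * wprod ml v = wprod ml v * x → ∀ i,
      (x : Equiv.Perm (Fin 4060)) (((wprod ml v : RuOrder.H) : Equiv.Perm (Fin 4060)) i) =
        ((wprod ml v : RuOrder.H) : Equiv.Perm (Fin 4060)) ((x : Equiv.Perm (Fin 4060)) i) := fun v x hx i =>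
    congrArg (fun g : RuOrder.H => (g : Equiv.Perm (Fin 4060)) i) hx
  have h1 : Nat.card ((Cen cs).map RuOrder.H.subtype) ≤ N := by
    refine run_sound l _ _ h _ ?_ ?_ ?_
    · rintro _ ⟨x, -, rfl⟩
      exact x.2
    · rintro _ ⟨x, hx, rfl⟩ i
      exact key w x (hx w hw) i
    · rintro _ ⟨x, hx, rfl⟩ m hm'
      obtain ⟨v, hv, hv'⟩ := hm m hm'
      exact inv_adj hv' x.2 (key v x (hv x hx))
  rwa [Nat.card_congr ((Cen cs).equivMapOfInjective RuOrder.H.subtype RuOrder.H.subtype_injective).toEquiv]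

end Cfsg.Agent.CpAutRuFive.Eng

private theorem dce_51c918f6cb95 : _root_.True := by
  try have : _root_.True := by simp only [_root_.Cfsg.Agent.CpAutRuFive.Eng.orbC.eq_1]
  try have : _root_.True := by simp only [_root_.Cfsg.Agent.CpAutRuFive.Eng.chkAdj.eq_1]
  exact _root_.True.intro
end

-- part: CpAutRuFive/Cert
section
set_option linter.all false
open scoped Cfsg.Agent.FastGrp

/-!
# Centralisers of elements of order 5 in the Rudvalis group: the certificates (helper21)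

In the model `RuOrder.H`: `|C(xA)| ≤ 1000`, `|C(xA) ∩ C(z)| ≤ 120`, `|C(xB)| ≤ 300` (`z = s²` the involution `[1, 1]`).
-/

set_option autoImplicit false
set_option maxRecDepth 100000
set_option exponentiation.threshold 5000

namespace Cfsg.Agent.CpAutRuFive.Cert

open Cfsg.Agent.Lib Cfsg.Agent.Lib.BitNet Cfsg.Agent.SporadicB Cfsg.Agent.SporadicB.RuData Cfsg.Agent.SporadicB.RuOrder
open Cfsg.Agent.RuD.Data Cfsg.Agent.SporRec.TCUpperCert Cfsg.Agent.SporRec.R3.Kernel Cfsg.Agent.RuD.Letters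
open Cfsg.Agent.KFacts.Ru.CentEng Cfsg.Agent.CpAutRuFive.Eng

/-- an element of order 5 commuting with `s²` -/
def wA : List ℕ := [8, 5, 7, 1, 3, 1]

/-- an element of order 5 commuting with `t` -/
def wB : List ℕ := [1, 1, 2]

/-- points adjacent to their image under `wA` -/
def MA1 : ℕ := 0x22c42e1008080195441802129429b801288685aa12cc843b40c651008a1c88460088bc090190322818ce05c40381218240ee0260a2a1203b485191190049256814a814090188a418da0000649725681126995004410bf009000458080510202cd0b40920e1462048062e7346077a6b8b382001a8603004142c208d003200103c6c0860838826510281280341a70804b020403064283d210089809416224131009028001dc88ca8e0443c25544892b2180922027e51089b381804614254881114014a0eaa822c7008198302d2802b201a50e737a00d16e6b9bc384090c808001144c5900119c001210803d981aa20112480a0390230002830001500001028cf88284c35051220aa403244304008409003c9d8804400710cc518c900025086c88204512814ec49230181202932091506186d2492000af10120c79c80235a21070228b600ec944448908c60848740a60080412401e454214407060010411e0c48520a02be012271b5502700d0008a57880327014041a900124422292024198c89c069bc021196c948004a78110a1c060d20206462104381946260020ae82b62888191f5b54c0809082623000c09a02088283e40190a58c502009ee68001100bda959a10020808751a11326024c8e05a40cd89238892e6206fc9621d0c2b40247a188e4a4c3063468014105e8b1e40d264a0620746b20c7186c0c09a1c0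

/-- points adjacent to their image under `wA ^ 2` -/
def MA2 : ℕ := 0x8110c240818328ea13200193c8028b0c8424122886321903600481cb180c1001d39304b210e040808d137603048431ec320165e201084140000a0700da029802a913333288a020c64105ccad1018118d4da200adda8429fe31901112a99468a2a9830c3301b9c8c281810c109150493e891900090203d9dc130d7c302c0e23019685064451010104754210a228210006950792408202fe83d244106008200412740113022202d5540dd30403f0490810048b92211400040142987c9108450c04dc8063040205818348342100330c1167a97020272088186a21a4d50c42f4a02221310dc6ae64669044e0004b402288854841e41591fa90401402078528d0000310f1204348cf4d524800815102b9161505212038900441118018d25225380955e1e0494417254c2800500025246003c0919c00484c1b29c4b620080881073c6184d8c0004110a7a7a24881605202164008b00e8240808203a90ca08013731828a047d0545d64182050148a1a11014708825a20070249a3c5841401cce09112048509052213a52b00808f90fce40299180400ab01144d0100809650ba95a024421a0e4901345046d83420575000cc02e021214119224004fc001b28b24043015811eb50030804480e00a10a0226a43a2c313140818004080207431884280b9da0423004dcc4a2510948080420a100000021c0348c43243082140362a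

/-- points adjacent to their image under `s²` -/
def MZ : ℕ := 0x15c67c0f1bbc723ff9d0100d6ecd3585c2d03b85606b92fdd5bb2a25515372c81c42f8c22203f43676e9a914f9eb6f6dd40a51155b1e8880cfe5ea722bec6121ea5ec4b8787fc8605601f147480fc1ff532869f7a88200f24463088e6af90ed62310f5aa372be3812068a449b58df8026853ca42c70057035870020917d574e510282a61a6421ce9bfa0cee058f7e2de5e246d8a6bad00720a0263eb840e9ea46422eab2a712ecbdb2405cac23548b2473a8e980ad23d8bd3b69120d28324717ea97795739319306e77d09c19dc69a870c9d42c827db8b459f12a315813b320b8c4c841ba2bf10422375332eb7c17c7bc23d42ec006b4a02e8bb4985ff2ce768f40b0922222e94ad759b0e8c37ca6d12c0026f6aede6a5d9bfd32fb40c2e729fc6abd4ef821a0dc03eda10db9ac47c0270086e9e71aea0180d5ee7c3f51a68b3d02b893faaedf0071a3e6a4327f95e8db20ea01c39e903105d61cc9441b287fafda363e3439e2642160f8b801df78495bc9cd85ff7fefd250bcccaa09352e176b462946920fa16a352f4437629c5dad3c49e85aef6163f635b089c530313968d6868c812da884912590696c971ad451dc034b295809b5523ec0123b2b6002724f7abed77a00205f924cd5bbd158e6c64f4e25e7b5e24d590ac9de5536b6b66d008a52b7a85212a24168733e28ee3bdae835a874744dccc65676400c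

/-- points adjacent to their image under `s² wA` -/
def MZA : ℕ := 0xa286b0ec921434f1a435c435947f21898080a525cfdaa3722081a1da8abe49819596fa0162e17ea4f1ce572c11541490e6e834e0c34001b4df7bdc1cf093fb22c30d8f50a2caa93612c98ac9da15c6425d4b48a1333669a65318cbbc8106403d04c4031126000b8580bbd8602662a6dce36e8ecf60022c1ccdbcacf53e781a6486f59225d143d13ac08222e342000cf9a1efba701921ced04ac930269801389183443b018c0c3ce00f3010a28018c2702c2301fef9d7187949bc0e34276d9a4035468aa242e68e3f4892a8d0ca05c5a5b7d671c70e119aca3eb062a84cbe628eeddddf4504c9fa75556311c1df228297ca36a62612497a421170928478e5471a2ab8a1495881f0111d1cd4101ce3224ee975687a70f68cca58e579290816cdb82c050032957161b9d020085b6e56b6c1aaa75d00447267c1101ea0025205944254900c3191115064b449962724a139e8f0ae6a20c775b417d3ef7624b35bba731bf1a8341669147c770b60482b56c734fb46e12ca11453e38bba93ec538fc3de34a721952b01a882c577908ac231412416062cd1db8f257b04135ce9f4a3b9c31647028b8e72d693afec1b552a69c26c2c52113c23e20274bf992948658446048648072c002c526131a6808a342e5549c3d22a57173c4088835e1f8ae2a0ea117b706d246748f220631a1623a540548e8aad13586d50e126e152968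

/-- points adjacent to their image under `wB` -/
def MB1 : ℕ := 0x5dc753e032c0a124bd4630c67320614ae28122680dfc4200e00020a9c0108249084000e209610e34136dd4d4794047155922cc98041ca000010603305e06add1114fa27b0a0ca07108a24492a0aa381480448c32d744085677580436a65132e7ea012d8209c80901809881295980386a6a8504c6a04441220d03110ab6415809858c5542747002d1a144082f35d29f26160e8ea99905a35e0165427f401586480b0491086297aa141272a06ae0100a1cd00ed27229cb3209207d51a305e4478f002ab33a9ec025b02a8447650150bc12d19405bdce50a00741446269a13164a9f0570f9320194043774ca49c882169101c9a8c01c1c10d4a1936566b008077bedad601d1a987541c530d4a1c5f3bd9a90386264526ed0a26456552ad1cded88194454821208cd3a2800c710c61501e849128b10a0a0a433ac049011888be29c4ea83690ee7952ed24645000c02a8d02a8c8e9028a6e638084d1e75f00c841b6f0580456830fac51304443d04206516001d3607a6550c105200304110ad832021423e64984166cc80001074006697b6b2908991a0ea201e1d1900c0e0544442309b288351fa6f99e2d0bf14a82b81021213ff80218e640059323a4000800028ba4890cc020104b8092cd200a124a17312400fa107082758251f204415530ba19e1f100079621070be04a089212d283c128166150620104144e4c5228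

/-- points adjacent to their image under `wB ^ 2` -/
def MB2 : ℕ := 0xa20c1c1c4c505801086acf304c9c5f149f77c50402412146da408472188000be6d5a1307d404213c2611890726b944012ac02b5326f113ef962436fd2211008ce6fa19a490185c01774ea0064253066828a2624a00096302088405091197c458062632881e04504f7e6d44ca048e8481aca0b0704d39aacae2e468678b88b3c42068820d098d08041a0e967480c48011a0f5195044601471c0001ea2a6c02131a80bace29142182a49454d082db160414b300c8d5c351d0cdfe18e59a010ec3145403c84442a104b1418d199620449410ae418000074461005099106358812051ee854704583009a22026e00d0deaaa045617352240e9080e24ba8fe10138b458523fa3e434622a47c1ab249b1066e2098594d500800e219b8588792a42870b826ba82805b19b01805d486631027c1387ed8622d946f18d41c008315c508c69a16241198b04241082b1240d39c0023115251c4d3501ac01481a1c180404a0480a53602c4090466e8111dc2154474cc29408188d2fb856ca4bacd9036810004509ba0070f9c9210194bfbef8500a0305f2428774841021c62a0953258ab819fa5001c983e9c100f1b03004c82845198c088087cc714802306414009a8491a8261c20439730f780686f501829ec3c488ae928041c3403647dec42e76a2e0692282400c40a61422096412746014d4135fe962912199d3a0b8380e1a447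

/-- instructions -/
def insA : List St := [
  .diff 0 1, .base 0 6, .and 6 7, .and 0 4, .and 0 4, .and 0 4, .diff 0 8, .and 0 5, .cnt 0 4, .and 0 13,
  .and 0 10, .and 0 12, .diff 0 10, .diff 0 15, .pt 0 3783, .and 21 2, .and 0 20, .and 0 2, .and 0 7, .diff 0 7,
  .diff 0 23, .diff 0 26, .diff 0 8, .diff 0 31, .diff 0 26, .pt 0 394, .and 38 36, .and 0 20, .and 0 17, .and 0 7,
  .diff 0 21, .diff 0 39, .diff 0 38, .diff 0 42, .pt 0 3245, .and 51 48, .and 0 48, .and 0 6, .and 0 4, .diff 0 53,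
  .and 0 50, .diff 0 36, .diff 0 53, .pt 0 1585]

/-- instructions -/
def insZ : List St := [
  .diff 0 1, .and 0 3, .diff 0 5, .base 0 34, .and 8 9, .and 0 11, .and 0 6, .and 0 6, .diff 0 6, .cnt 0 2,
  .and 0 15, .and 0 17, .and 0 11, .and 0 10, .diff 0 12, .and 0 11, .diff 0 23, .diff 0 17, .pt 0 62, .and 27 28,
  .and 0 23, .and 0 4, .and 0 7, .diff 0 25, .diff 0 24, .diff 0 6, .pt 0 3297, .and 34 33, .and 0 33, .and 0 43,
  .and 0 18, .and 0 35, .diff 0 40, .and 0 19, .diff 0 11, .pt 0 1592, .and 48 55, .and 0 30, .and 0 5, .and 0 31,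
  .and 0 50, .diff 0 20, .diff 0 58, .pt 0 3475]

/-- instructions -/
def insB : List St := [
  .and 0 1, .base 0 22, .and 6 7, .and 0 5, .diff 0 5, .diff 0 5, .diff 0 4, .and 0 6, .cnt 0 9, .and 0 11,
  .and 0 15, .diff 0 10, .diff 0 13, .diff 0 13, .pt 0 229, .and 24 2, .and 0 19, .and 0 19, .and 0 24, .and 0 24,
  .diff 0 5, .diff 0 29, .diff 0 11, .pt 0 532, .and 36 33, .and 0 33, .and 0 17, .and 0 16, .diff 0 8, .diff 0 19,
  .diff 0 23, .diff 0 41, .diff 0 39, .pt 0 1108]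

theorem adjA1 : chkAdj wA MA1 = true := by decide +kernel
theorem adjA2 : chkAdj (wA ++ wA) MA2 = true := by decide +kernel
theorem adjZ : chkAdj [1, 1] MZ = true := by decide +kernel
theorem adjZA : chkAdj ([1, 1] ++ wA) MZA = true := by decide +kernel
theorem adjB1 : chkAdj wB MB1 = true := by decide +kernel
theorem adjB2 : chkAdj (wB ++ wB) MB2 = true := by decide +kernel

private noncomputable def _root_.Cfsg.Agent.KO87458c4.k0 : (by first | exact type_of% @Cfsg.Agent.Lib.BitNetSimple.force | exact Unit : Sort _) := by first | (refine @Subtype.val _ (fun g => @Cfsg.Agent.Lib.BitNetSimple.force = @g) (@Subtype.mk _ _ (@(fun x0 x1 x2 => @Nat.rec.{1} @(fun x3 => @x0) (@x2 (nat_lit 0)) @(fun x3 x4 => @x2 (@Nat.succ @x3)) @x1)) ?_); rfl') | exact @Cfsg.Agent.Lib.BitNetSimple.force | exact ()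
private theorem _root_.Cfsg.Agent.KO87458c4.e0 : (by first | exact @Cfsg.Agent.Lib.BitNetSimple.force = @_root_.Cfsg.Agent.KO87458c4.k0 | exact True : Prop) := by first | (delta _root_.Cfsg.Agent.KO87458c4.k0; exact @Subtype.property _ (fun g => @Cfsg.Agent.Lib.BitNetSimple.force = @g) _) | rfl | trivial
private noncomputable def _root_.Cfsg.Agent.KO87458c4.k8 : (by first | exact type_of% @Cfsg.Agent.SporadicB.RuData.rotB | exact Unit : Sort _) := by first | (refine @Subtype.val _ (fun g => @Cfsg.Agent.SporadicB.RuData.rotB = @g) (@Subtype.mk _ _ (@(fun x0 x1 => @Nat.lor (@Nat.shiftLeft (@Nat.land @x1 (@Nat.mul (@Nat.sub (@Nat.pow (nat_lit 2) (@Nat.sub (nat_lit 29) @x0)) (nat_lit 1)) (@Nat.div (@Nat.sub (@Nat.pow (nat_lit 2) (nat_lit 4060)) (nat_lit 1)) (nat_lit 536870911)))) @x0) (@Nat.land (@Nat.shiftRight @x1 (@Nat.sub (nat_lit 29) @x0)) (@Nat.mul (@Nat.sub (@Nat.pow (nat_lit 2) @x0) (nat_lit 1)) (@Nat.div (@Nat.sub (@Nat.pow (nat_lit 2) (nat_lit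 4060)) (nat_lit 1)) (nat_lit 536870911)))))) ?_); rfl') | exact @Cfsg.Agent.SporadicB.RuData.rotB | exact ()
private theorem _root_.Cfsg.Agent.KO87458c4.e8 : (by first | exact @Cfsg.Agent.SporadicB.RuData.rotB = @_root_.Cfsg.Agent.KO87458c4.k8 | exact True : Prop) := by first | (delta _root_.Cfsg.Agent.KO87458c4.k8; exact @Subtype.property _ (fun g => @Cfsg.Agent.SporadicB.RuData.rotB = @g) _) | rfl | trivial
private noncomputable def _root_.Cfsg.Agent.KO87458c4.k9 : (by first | exact type_of% @Cfsg.Agent.SporadicB.RuData.row | exact Unit : Sort _) := by first | (refine @Subtype.val _ (fun g => @Cfsg.Agent.SporadicB.RuData.row = @g) (@Subtype.mk _ _ (@(fun x0 => @Cfsg.Agent.KO87458c4.k8 (@Nat.mod @x0 (nat_lit 29)) (@Nat.mod (@Nat.shiftRight @Cfsg.Agent.SporadicB.RuData.R (@Nat.mul (nat_lit 4096) (@Nat.div @x0 (nat_lit 29)))) (@Nat.pow (nat_lit 2) (nat_lit 4096))))) ?_); rewrite [← Cfsg.Agent.KO87458c4.e8]; (try delta Cfsg.Agent.SporadicB.RuData.row);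 (try generalize @Cfsg.Agent.SporadicB.RuData.rotB = g0); (try generalize @Cfsg.Agent.SporadicB.RuData.R = g1); rfl') | exact @Cfsg.Agent.SporadicB.RuData.row | exact ()
private theorem _root_.Cfsg.Agent.KO87458c4.e9 : (by first | exact @Cfsg.Agent.SporadicB.RuData.row = @_root_.Cfsg.Agent.KO87458c4.k9 | exact True : Prop) := by first | (delta _root_.Cfsg.Agent.KO87458c4.k9; exact @Subtype.property _ (fun g => @Cfsg.Agent.SporadicB.RuData.row = @g) _) | rfl | trivial
private noncomputable def _root_.Cfsg.Agent.KO87458c4.k12 : type_of% @Decidable.decide := @(fun x0 x1 => @Decidable.rec.{1} _ @(fun x2 => @Bool) @(fun x2 => @Bool.false) @(fun x2 => @Bool.true) @x1)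
private theorem _root_.Cfsg.Agent.KO87458c4.e12 : @Decidable.decide = @_root_.Cfsg.Agent.KO87458c4.k12 := by delta _root_.Cfsg.Agent.KO87458c4.k12; rfl'
private noncomputable def _root_.Cfsg.Agent.KO87458c4.k13.{ku0} : type_of% @Option.instDecidableEq.{ku0} := @(fun x0 x1 x2 x3 => @Option.rec.{1, ku0} @x0 @(fun x4 => @Decidable (@Eq.{(ku0+1)} _ @x4 @x3)) (@Option.rec.{1, ku0} @x0 @(fun x4 => @Decidable (@Eq.{(ku0+1)} _ (@Option.none.{ku0} _) @x4)) (@Decidable.isTrue _ (@Option.instDecidableEq._proof_1.{ku0} _)) @(fun x4 => @Decidable.isFalse _ (@Option.instDecidableEq._proof_2.{ku0} _ @x4)) @x3) @(fun x4 => @Option.rec.{1, ku0} @x0 @(fun x5 => @Decidable (@Eq.{(ku0+1)} _ (@Option.some.{ku0} _ @x4) @x5)) (@Decidable.isFalse _ (@Option.instDecidableEq._proof_3.{ku0} _ @x4)) @(fun x5 => @Decidable.rec.{1} _ @(fun x6 => @Decidable (@Eq.{(ku0+1)} _ (@Option.some.{ku0} _ @x4) (@Option.some.{ku0} _ @x5))) @(fun x6 => @Decidable.isFalse _ (@Option.instDecidableEq._proof_5.{ku0}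 _ @x4 @x5 @x6)) @(fun x6 => @Decidable.isTrue _ (@Option.instDecidableEq._proof_4.{ku0} _ @x4 @x5 @x6)) (@x1 @x4 @x5)) @x3) @x2)
private theorem _root_.Cfsg.Agent.KO87458c4.e13.{ku0} : @Option.instDecidableEq.{ku0} = @_root_.Cfsg.Agent.KO87458c4.k13.{ku0} := by delta _root_.Cfsg.Agent.KO87458c4.k13; rfl'
private noncomputable def _root_.Cfsg.Agent.KO87458c4.k14 : type_of% @Nat.decEq := @(fun x0 x1 => @Bool.rec.{1} @(fun x2 => (@Eq.{1} _ (@Nat.beq @x0 @x1) @x2) → @Decidable (@Eq.{1} _ @x0 @x1)) @(fun x2 => @Decidable.isFalse _ (@Nat.ne_of_beq_eq_false _ _ @x2)) @(fun x2 => @Decidable.isTrue _ (@Nat.eq_of_beq_eq_true _ _ @x2)) (@Nat.beq @x0 @x1) (@Eq.refl.{1} _ (@Nat.beq @x0 @x1)))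
private theorem _root_.Cfsg.Agent.KO87458c4.e14 : @Nat.decEq = @_root_.Cfsg.Agent.KO87458c4.k14 := by delta _root_.Cfsg.Agent.KO87458c4.k14; rfl'
private noncomputable def _root_.Cfsg.Agent.KO87458c4.k15 : type_of% @instDecidableEqNat := @Cfsg.Agent.KO87458c4.k14
private theorem _root_.Cfsg.Agent.KO87458c4.e15 : @instDecidableEqNat = @_root_.Cfsg.Agent.KO87458c4.k15 := by delta _root_.Cfsg.Agent.KO87458c4.k15; rewrite [← Cfsg.Agent.KO87458c4.e14]; rfl'
private noncomputable def _root_.Cfsg.Agent.KO87458c4.oEq.{ku} (α : Sort ku) (a b : Nat) (f t : α) : α := @Decidable.rec (a = b) (fun _ => α) (fun _ => f) (fun _ => t) (Nat.decEq a b)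
private noncomputable def _root_.Cfsg.Agent.KO87458c4.k16.{ku} (α : Sort ku) (a b : Nat) (f t : α) : α := @Bool.rec (fun _ => α) f t (Nat.beq a b)
private theorem _root_.Cfsg.Agent.KO87458c4.e16.{ku} : @_root_.Cfsg.Agent.KO87458c4.oEq.{ku} = @_root_.Cfsg.Agent.KO87458c4.k16.{ku} := funext fun α => funext fun a => funext fun b => funext fun f => funext fun t => by delta _root_.Cfsg.Agent.KO87458c4.oEq _root_.Cfsg.Agent.KO87458c4.k16; cases h : Nat.beq a b <;> cases Nat.decEq a b <;> rename_i g <;> first | rfl | exact absurd g (Nat.ne_of_beq_eq_false h) | exact absurd (Nat.eq_of_beq_eq_true h) g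
private theorem _root_.Cfsg.Agent.KO87458c4.e17.{ku, kv} {α : Type kv} {M : List α → Sort ku} (φ : ∀ l, M l) {z : M List.nil} {s : ∀ a l, M l → M (List.cons a l)} (h0 : φ List.nil = z) (hs : ∀ a l, φ (List.cons a l) = s a l (φ l)) (l : List α) : φ l = @List.rec α M z s l := List.rec h0 (fun a l ih => (hs a l).trans (congrArg (s a l) ih)) l
private noncomputable def _root_.Cfsg.Agent.KO87458c4.k18 : (by first | exact type_of% @Cfsg.Agent.Lib.BitNet.sep | exact Unit : Sort _) := by first | (refine @Subtype.val _ (fun g => @Cfsg.Agent.Lib.BitNet.sep = @g) (@Subtype.mk _ _ (@(fun x0 x1 => @List.rec.{1, 0} ℕ @(fun x2 => ℕ → @Bool) @(fun x2 => @Nat.beq (@Nat.land @x2 (@Nat.sub @x2 (nat_lit 1))) (nat_lit 0)) @(fun x2 x3 x4 x5 => @Bool.rec.{1} @(fun x6 => @Bool) (@Bool.rec.{1} @(fun x6 => @Bool) @Bool.false (@x4 (@Nat.xor @x5 (@Nat.land @x5 @x2))) (@x4 (@Nat.land @x5 @x2))) @Bool.true (@Nat.beq (@Nat.land @x5 (@Nat.sub @x5 (nat_lit 1))) (nat_lit 0))) @x0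 @x1)) ?_); funext a0 a1; refine (congrFun (_root_.Cfsg.Agent.KO87458c4.e17 (fun a0 a1 => @Cfsg.Agent.Lib.BitNet.sep a0 a1) ?_ (fun c0 c1 => ?_) a0) a1 :) <;> (rfl')) | exact @Cfsg.Agent.Lib.BitNet.sep | exact ()
private theorem _root_.Cfsg.Agent.KO87458c4.e18 : (by first | exact @Cfsg.Agent.Lib.BitNet.sep = @_root_.Cfsg.Agent.KO87458c4.k18 | exact True : Prop) := by first | (delta _root_.Cfsg.Agent.KO87458c4.k18; exact @Subtype.property _ (fun g => @Cfsg.Agent.Lib.BitNet.sep = @g) _) | rfl | trivial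
private noncomputable def _root_.Cfsg.Agent.KO87458c4.k20.{ku0} : type_of% @List.get?Internal.{ku0} := @(fun x0 x1 x2 => @List.rec.{(ku0+1), ku0} @x0 @(fun x3 => ℕ → @Option.{ku0} @x0) @(fun x3 => @Option.none.{ku0} _) @(fun x3 x4 x5 x6 => @Nat.rec.{(ku0+1)} @(fun x7 => @Option.{ku0} @x0) (@Option.some.{ku0} _ @x3) @(fun x7 x8 => @x5 @x7) @x6) @x1 @x2)
private theorem _root_.Cfsg.Agent.KO87458c4.e20.{ku0} : @List.get?Internal.{ku0} = @_root_.Cfsg.Agent.KO87458c4.k20.{ku0} := by delta _root_.Cfsg.Agent.KO87458c4.k20; funext a0 a1 a2; refine (congrFun (_root_.Cfsg.Agent.KO87458c4.e17 (fun a1 a2 => @List.get?Internal.{ku0} a0 a1 a2) ?_ (fun c0 c1 => ?_) a1) a2 :) <;> [(funext b0; (rfl')); (funext b0; (cases b0 with | @zero  => (rfl') | @succ b0_0 => (rfl')))]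
private noncomputable def _root_.Cfsg.Agent.KO87458c4.k21 : (by first | exact type_of% @Cfsg.Agent.Lib.BitNet.eqVal | exact Unit : Sort _) := by first | (refine @Subtype.val _ (fun g => @Cfsg.Agent.Lib.BitNet.eqVal = @g) (@Subtype.mk _ _ (@(fun x0 x1 x2 => @List.rec.{1, 0} ℕ @(fun x3 => ℕ → ℕ → ℕ) @(fun x3 x4 => @Bool.rec.{1} @(fun x5 => ℕ) (nat_lit 0) @x4 (@Nat.beq @x3 (nat_lit 0))) @(fun x3 x4 x5 x6 x7 => @x5 (@Nat.div @x6 (nat_lit 2)) (@Bool.rec.{1} @(fun x8 => ℕ) (@Nat.land @x7 @x3) (@Nat.xor @x7 (@Nat.land @x7 @x3)) (@Nat.beq (@Nat.mod @x6 (nat_lit 2)) (nat_lit 0)))) @x0 @x1 @x2)) ?_); funext a0 a1 a2; refine (congrFun (congrFun (_root_.Cfsg.Agent.KO87458c4.e17 (fun a0 a1 a2 => @Cfsg.Agent.Lib.BitNet.eqVal a0 a1 a2) ?_ (fun c0 c1 => ?_) a0) a1) a2 :) <;> (rfl')) | exact @Cfsg.Agent.Lib.BitNet.eqVal | exact ()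
private theorem _root_.Cfsg.Agent.KO87458c4.e21 : (by first | exact @Cfsg.Agent.Lib.BitNet.eqVal = @_root_.Cfsg.Agent.KO87458c4.k21 | exact True : Prop) := by first | (delta _root_.Cfsg.Agent.KO87458c4.k21; exact @Subtype.property _ (fun g => @Cfsg.Agent.Lib.BitNet.eqVal = @g) _) | rfl | trivial
private theorem _root_.Cfsg.Agent.KO87458c4.e22.{ku} {M : Nat → Sort ku} (φ : ∀ n, M n) {z : M Nat.zero} {s : ∀ n, M n → M (Nat.succ n)} (h0 : φ Nat.zero = z) (hs : ∀ n, φ (Nat.succ n) = s n (φ n)) (n : Nat) : φ n = @Nat.rec M z s n := Nat.rec h0 (fun n ih => (hs n).trans (congrArg (s n) ih)) n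
private noncomputable def _root_.Cfsg.Agent.KO87458c4.k23 : (by first | exact type_of% @Cfsg.Agent.Lib.BitNet.addRow | exact Unit : Sort _) := by first | (refine @Subtype.val _ (fun g => @Cfsg.Agent.Lib.BitNet.addRow = @g) (@Subtype.mk _ _ (@(fun x0 x1 => @List.rec.{1, 0} ℕ @(fun x2 => ℕ → @List.{0} ℕ) @(fun x2 => @Bool.rec.{1} @(fun x3 => @List.{0} ℕ) (@x2 :: []) [] (@Nat.beq @x2 (nat_lit 0))) @(fun x2 x3 x4 x5 => @Bool.rec.{1} @(fun x6 => @List.{0} ℕ) ((@Nat.xor @x2 @x5) :: (@x4 (@Nat.land @x2 @x5))) (@x2 :: @x3) (@Nat.beq @x5 (nat_lit 0))) @x0 @x1)) ?_); funext a0 a1; refine (congrFun (_root_.Cfsg.Agent.KO87458c4.e17 (fun a0 a1 => @Cfsg.Agent.Lib.BitNet.addRow a0 a1) ?_ (fun c0 c1 => ?_) a0) a1 :) <;> (rfl')) | exact @Cfsg.Agent.Lib.BitNet.addRow | exact ()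
private theorem _root_.Cfsg.Agent.KO87458c4.e23 : (by first | exact @Cfsg.Agent.Lib.BitNet.addRow = @_root_.Cfsg.Agent.KO87458c4.k23 | exact True : Prop) := by first | (delta _root_.Cfsg.Agent.KO87458c4.k23; exact @Subtype.property _ (fun g => @Cfsg.Agent.Lib.BitNet.addRow = @g) _) | rfl | trivial
private noncomputable def _root_.Cfsg.Agent.KO87458c4.k24 : (by first | exact type_of% @Cfsg.Agent.Lib.BitNet.sumRows | exact Unit : Sort _) := by first | (refine @Subtype.val _ (fun g => @Cfsg.Agent.Lib.BitNet.sumRows = @g) (@Subtype.mk _ _ (@(fun x0 x1 x2 x3 x4 => @Nat.rec.{1} @(fun x5 => ℕ → ℕ → (@List.{0} ℕ) → @List.{0} ℕ) @(fun x5 x6 x7 => @Bool.rec.{1} @(fun x8 => @List.{0} ℕ) (@Cfsg.Agent.KO87458c4.k23 @x7 (@x0 @x5)) @x7 (@Nat.beq (@Nat.land @x6 (nat_lit 1)) (nat_lit 0))) @(fun x5 x6 x7 x8 x9 => @Bool.rec.{1} @(fun x10 => @List.{0} ℕ) (@x6 (@Nat.add @x7 (@Nat.pow (nat_lit 2) @x5)) (@Nat.shiftRight @x8 (@Nat.pow (nat_lit 2) @x5)) (@x6 @x7 (@Nat.mod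 @x8 (@Nat.pow (nat_lit 2) (@Nat.pow (nat_lit 2) @x5))) @x9)) @x9 (@Nat.beq @x8 (nat_lit 0))) @x1 @x2 @x3 @x4)) ?_); rewrite [← Cfsg.Agent.KO87458c4.e23]; funext a0 a1 a2 a3 a4; refine (congrFun (congrFun (congrFun (_root_.Cfsg.Agent.KO87458c4.e22 (fun a1 a2 a3 a4 => @Cfsg.Agent.Lib.BitNet.sumRows a0 a1 a2 a3 a4) ?_ (fun c0 => ?_) a1) a2) a3) a4 :) <;> ((try delta Cfsg.Agent.Lib.BitNet.sumRows Cfsg.Agent.Lib.BitNet.sumRows._f); (try generalize @Cfsg.Agent.Lib.BitNet.addRow = g0); rfl')) | exact @Cfsg.Agent.Lib.BitNet.sumRows | exact ()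
private theorem _root_.Cfsg.Agent.KO87458c4.e24 : (by first | exact @Cfsg.Agent.Lib.BitNet.sumRows = @_root_.Cfsg.Agent.KO87458c4.k24 | exact True : Prop) := by first | (delta _root_.Cfsg.Agent.KO87458c4.k24; exact @Subtype.property _ (fun g => @Cfsg.Agent.Lib.BitNet.sumRows = @g) _) | rfl | trivial
private noncomputable def _root_.Cfsg.Agent.KO87458c4.k25 : (by first | exact type_of% @Cfsg.Agent.Lib.BitNet.cntSet | exact Unit : Sort _) := by first | (refine @Subtype.val _ (fun g => @Cfsg.Agent.Lib.BitNet.cntSet = @g) (@Subtype.mk _ _ (@(fun x0 x1 x2 x3 x4 => @Cfsg.Agent.KO87458c4.k21 (@Cfsg.Agent.KO87458c4.k24 @x2 @x0 (nat_lit 0) (@Nat.land @x3 (@Nat.sub (@Nat.pow (nat_lit 2) @x1) (nat_lit 1))) []) @x4 (@Nat.sub (@Nat.pow (nat_lit 2) @x1) (nat_lit 1)))) ?_); rewrite [← Cfsg.Agent.KO87458c4.e24, ← Cfsg.Agent.KO87458c4.e21]; (try delta Cfsg.Agent.Lib.BitNet.cntSet); (try generalize @Cfsg.Agent.Lib.BitNet.eqVal = g0); (try generalize @Cfsg.Agent.Lib.BitNet.sumRows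 = g1); rfl') | exact @Cfsg.Agent.Lib.BitNet.cntSet | exact ()
private theorem _root_.Cfsg.Agent.KO87458c4.e25 : (by first | exact @Cfsg.Agent.Lib.BitNet.cntSet = @_root_.Cfsg.Agent.KO87458c4.k25 | exact True : Prop) := by first | (delta _root_.Cfsg.Agent.KO87458c4.k25; exact @Subtype.property _ (fun g => @Cfsg.Agent.Lib.BitNet.cntSet = @g) _) | rfl | trivial
private noncomputable def _root_.Cfsg.Agent.KO87458c4.k26 : (by first | exact type_of% @Cfsg.Agent.RuD.Letters.forceN | exact Unit : Sort _) := by first | (refine @Subtype.val _ (fun g => @Cfsg.Agent.RuD.Letters.forceN = @g) (@Subtype.mk _ _ (@(fun x0 x1 => @Nat.rec.{1} @(fun x2 => ℕ) (@x1 (nat_lit 0)) @(fun x2 x3 => @x1 (@Nat.succ @x2)) @x0)) ?_); rfl') | exact @Cfsg.Agent.RuD.Letters.forceN | exact ()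
private theorem _root_.Cfsg.Agent.KO87458c4.e26 : (by first | exact @Cfsg.Agent.RuD.Letters.forceN = @_root_.Cfsg.Agent.KO87458c4.k26 | exact True : Prop) := by first | (delta _root_.Cfsg.Agent.KO87458c4.k26; exact @Subtype.property _ (fun g => @Cfsg.Agent.RuD.Letters.forceN = @g) _) | rfl | trivial
private noncomputable def _root_.Cfsg.Agent.KO87458c4.k27 : (by first | exact type_of% @Cfsg.Agent.Lib.BitNet.sw | exact Unit : Sort _) := by first | (refine @Subtype.val _ (fun g => @Cfsg.Agent.Lib.BitNet.sw = @g) (@Subtype.mk _ _ (@(fun x0 x1 x2 => @Bool.rec.{1} @(fun x3 => ℕ) (@Bool.rec.{1} @(fun x3 => ℕ) @x2 (@Nat.sub @x2 @x0) (@Bool.rec.{1} @(fun x3 => @Bool) @Bool.false (@Bool.rec.{1} @(fun x3 => @Bool) @Bool.true @Bool.false (@Cfsg.Agent.KO87458c4.k16.{1} @Bool (@Nat.land (nat_lit 1) (@Nat.shiftRight @x1 (@Nat.sub @x2 @x0))) (nat_lit 0) @Bool.false @Bool.true)) (@Nat.ble @x0 @x2))) (@Nat.add @x2 @x0) (@Bool.rec.{1} @(fun x3 => @Bool) @Bool.true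 @Bool.false (@Cfsg.Agent.KO87458c4.k16.{1} @Bool (@Nat.land (nat_lit 1) (@Nat.shiftRight @x1 @x2)) (nat_lit 0) @Bool.false @Bool.true)))) ?_); rewrite [← Cfsg.Agent.KO87458c4.e16.{1}]; rfl') | exact @Cfsg.Agent.Lib.BitNet.sw | exact ()
private theorem _root_.Cfsg.Agent.KO87458c4.e27 : (by first | exact @Cfsg.Agent.Lib.BitNet.sw = @_root_.Cfsg.Agent.KO87458c4.k27 | exact True : Prop) := by first | (delta _root_.Cfsg.Agent.KO87458c4.k27; exact @Subtype.property _ (fun g => @Cfsg.Agent.Lib.BitNet.sw = @g) _) | rfl | trivial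
private noncomputable def _root_.Cfsg.Agent.KO87458c4.k28 : (by first | exact type_of% @Cfsg.Agent.RuD.Letters.appK | exact Unit : Sort _) := by first | (refine @Subtype.val _ (fun g => @Cfsg.Agent.RuD.Letters.appK = @g) (@Subtype.mk _ _ (@(fun x0 => @List.rec.{1, 0} (ℕ × ℕ) @(fun x1 => ℕ → ℕ) @(fun x1 => @x1) @(fun x1 x2 x3 x4 => @Cfsg.Agent.KO87458c4.k26 (@Cfsg.Agent.KO87458c4.k27 (@Prod.fst.{0, 0} _ _ @x1) (@Prod.snd.{0, 0} _ _ @x1) @x4) @x3) @x0)) ?_); rewrite [← Cfsg.Agent.KO87458c4.e27, ← Cfsg.Agent.KO87458c4.e26]; (try delta Cfsg.Agent.RuD.Letters.appK); (try generalize @Cfsg.Agent.RuD.Letters.forceN = g0); (try generalize @Cfsg.Agent.Lib.BitNet.sw = g1); rfl') | exact @Cfsg.Agent.RuD.Letters.appK | exact ()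
private theorem _root_.Cfsg.Agent.KO87458c4.e28 : (by first | exact @Cfsg.Agent.RuD.Letters.appK = @_root_.Cfsg.Agent.KO87458c4.k28 | exact True : Prop) := by first | (delta _root_.Cfsg.Agent.KO87458c4.k28; exact @Subtype.property _ (fun g => @Cfsg.Agent.RuD.Letters.appK = @g) _) | rfl | trivial
private noncomputable def _root_.Cfsg.Agent.KO87458c4.k29 : (by first | exact type_of% @Cfsg.Agent.RuD.Letters.evalK | exact Unit : Sort _) := by first | (refine @Subtype.val _ (fun g => @Cfsg.Agent.RuD.Letters.evalK = @g) (@Subtype.mk _ _ (@(fun x0 x1 => @List.rec.{1, 0} ℕ @(fun x2 => ℕ) @x1 @(fun x2 x3 x4 => @Cfsg.Agent.KO87458c4.k26 @x4 (@Cfsg.Agent.KO87458c4.k28 (@Cfsg.Agent.RuD.Letters.nthL @Cfsg.Agent.RuD.Letters.NL @x2))) @x0)) ?_); rewrite [← Cfsg.Agent.KO87458c4.e28, ← Cfsg.Agent.KO87458c4.e26]; (try delta Cfsg.Agent.RuD.Letters.evalK); (try generalize @Cfsg.Agent.RuD.Letters.forceN = g0); (try generalize @Cfsg.Agent.RuD.Letters.appK = g1); (try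 generalize @Cfsg.Agent.RuD.Letters.nthL = g2); (try generalize @Cfsg.Agent.RuD.Letters.NL = g3); rfl') | exact @Cfsg.Agent.RuD.Letters.evalK | exact ()
private theorem _root_.Cfsg.Agent.KO87458c4.e29 : (by first | exact @Cfsg.Agent.RuD.Letters.evalK = @_root_.Cfsg.Agent.KO87458c4.k29 | exact True : Prop) := by first | (delta _root_.Cfsg.Agent.KO87458c4.k29; exact @Subtype.property _ (fun g => @Cfsg.Agent.RuD.Letters.evalK = @g) _) | rfl | trivial
private noncomputable def _root_.Cfsg.Agent.KO87458c4.k30 : (by first | exact type_of% @Cfsg.Agent.CpAutRuFive.Eng.orbC | exact Unit : Sort _) := by first | (refine @Subtype.val _ (fun g => @Cfsg.Agent.CpAutRuFive.Eng.orbC = @g) (@Subtype.mk _ _ (@(fun x0 x1 x2 => @Cfsg.Agent.KO87458c4.k0 _ (@Cfsg.Agent.KO87458c4.k29 @x0 @x1) @(fun x3 => @Cfsg.Agent.KO87458c4.k0 _ (@Cfsg.Agent.KO87458c4.k29 @x0 @x3) @(fun x4 => @Cfsg.Agent.KO87458c4.k0 _ (@Cfsg.Agent.KO87458c4.k29 @x0 @x4) @(fun x5 => @Cfsg.Agent.KO87458c4.k0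 _ (@Cfsg.Agent.KO87458c4.k29 @x0 @x5) @(fun x6 => @Cfsg.Agent.KO87458c4.k0 _ (@Cfsg.Agent.KO87458c4.k9 @x1) @(fun x7 => @Cfsg.Agent.KO87458c4.k0 _ (@Cfsg.Agent.KO87458c4.k9 @x3) @(fun x8 => @Cfsg.Agent.KO87458c4.k0 _ (@Cfsg.Agent.KO87458c4.k9 @x4) @(fun x9 => @Cfsg.Agent.KO87458c4.k0 _ (@Cfsg.Agent.KO87458c4.k9 @x5) @(fun x10 => @Cfsg.Agent.KO87458c4.k0 _ (@Cfsg.Agent.KO87458c4.k9 @x6) @(fun x11 => @x2 @x7 @x8 @x9 @x10 @x11))))))))))) ?_); rewrite [← Cfsg.Agent.KO87458c4.e9, ← Cfsg.Agent.KO87458c4.e29, ← Cfsg.Agent.KO87458c4.e0]; (try delta Cfsg.Agent.CpAutRuFive.Eng.orbC); (try generalize @Cfsg.Agent.Lib.BitNetSimple.force = g0); (try generalize @Cfsg.Agent.RuD.Letters.evalK = g1); (try generalize @Cfsg.Agent.SporadicB.RuData.row = g2); rfl') | exact @Cfsg.Agent.CpAutRuFive.Eng.orbC | exact ()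
private theorem _root_.Cfsg.Agent.KO87458c4.e30 : (by first | exact @Cfsg.Agent.CpAutRuFive.Eng.orbC = @_root_.Cfsg.Agent.KO87458c4.k30 | exact True : Prop) := by first | (delta _root_.Cfsg.Agent.KO87458c4.k30; exact @Subtype.property _ (fun g => @Cfsg.Agent.CpAutRuFive.Eng.orbC = @g) _) | rfl | trivial
private noncomputable def _root_.Cfsg.Agent.KO87458c4.k31 : (by first | exact type_of% @Cfsg.Agent.Lib.BitNet.popc | exact Unit : Sort _) := by first | (refine @Subtype.val _ (fun g => @Cfsg.Agent.Lib.BitNet.popc = @g) (@Subtype.mk _ _ (@(fun x0 x1 => @Nat.rec.{1} @(fun x2 => ℕ → ℕ) @(fun x2 => @Nat.land @x2 (nat_lit 1)) @(fun x2 x3 x4 => @Bool.rec.{1} @(fun x5 => ℕ) (@Nat.add (@x3 (@Nat.mod @x4 (@Nat.pow (nat_lit 2) (@Nat.pow (nat_lit 2) @x2)))) (@x3 (@Nat.shiftRight @x4 (@Nat.pow (nat_lit 2) @x2)))) (nat_lit 0) (@Nat.beq @x4 (nat_lit 0))) @x0 @x1)) ?_); funext a0 a1; refine (congrFun (_root_.Cfsg.Agent.KO87458c4.e22 (fun a0 a1 => @Cfsg.Agent.Lib.BitNet.popc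 a0 a1) ?_ (fun c0 => ?_) a0) a1 :) <;> (rfl')) | exact @Cfsg.Agent.Lib.BitNet.popc | exact ()
private theorem _root_.Cfsg.Agent.KO87458c4.e31 : (by first | exact @Cfsg.Agent.Lib.BitNet.popc = @_root_.Cfsg.Agent.KO87458c4.k31 | exact True : Prop) := by first | (delta _root_.Cfsg.Agent.KO87458c4.k31; exact @Subtype.property _ (fun g => @Cfsg.Agent.Lib.BitNet.popc = @g) _) | rfl | trivial
private noncomputable def _root_.Cfsg.Agent.KO87458c4.k33 : (by first | exact type_of% @Cfsg.Agent.CpAutRuFive.Eng.run | exact Unit : Sort _) := by first | (refine @Subtype.val _ (fun g => @Cfsg.Agent.CpAutRuFive.Eng.run = @g) (@Subtype.mk _ _ (@(fun x0 x1 x2 => @List.rec.{1, 0} @Cfsg.Agent.CpAutRuFive.Eng.St @(fun x3 => (@List.{0} ℕ) → @Option.{0} ℕ) @(fun x3 => @Bool.rec.{1} @(fun x4 => @Option.{0} ℕ) (@Option.none.{0} _) (@Option.some.{0} _ (nat_lit 1)) (@Cfsg.Agent.KO87458c4.k18 @x3 (@Nat.sub (@Nat.pow (nat_lit 2) (nat_lit 4060)) (nat_lit 1)))) @(fun x3 x4 x5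 x6 => @Cfsg.Agent.CpAutRuFive.Eng.St.rec.{1} @(fun x7 => @Option.{0} ℕ) @(fun x7 x8 => @Cfsg.Agent.KO87458c4.k0 _ (@Nat.land (@Option.rec.{1, 0} ℕ @(fun x9 => ℕ) (nat_lit 0) @(fun x9 => @x9) (@Cfsg.Agent.KO87458c4.k20.{0} _ @x6 @x7)) (@Option.rec.{1, 0} ℕ @(fun x9 => ℕ) (nat_lit 0) @(fun x9 => @x9) (@Cfsg.Agent.KO87458c4.k20.{0} _ @x6 @x8))) @(fun x9 => @x5 (@x9 :: @x6))) @(fun x7 x8 => @Cfsg.Agent.KO87458c4.k0 _ (@Nat.xor (@Option.rec.{1, 0} ℕ @(fun x9 => ℕ) (nat_lit 0) @(fun x9 => @x9) (@Cfsg.Agent.KO87458c4.k20.{0} _ @x6 @x7)) (@Nat.land (@Option.rec.{1, 0} ℕ @(fun x9 => ℕ) (nat_lit 0) @(fun x9 => @x9) (@Cfsg.Agent.KO87458c4.k20.{0} _ @x6 @x7)) (@Option.rec.{1, 0} ℕ @(fun x9 => ℕ) (nat_lit 0) @(fun x9 => @x9) (@Cfsg.Agent.KO87458c4.k20.{0} _ @x6 @x8)))) @(fun x9 => @x5 (@x9 :: @x6))) @(fun x7 x8 => @Cfsg.Agent.KO87458c4.k0 _ (@Cfsg.Agent.KO87458c4.k25 (nat_lit 12) (nat_lit 4060) @Cfsg.Agent.KO87458c4.k9 (@Option.rec.{1, 0} ℕ @(fun x9 => ℕ) (nat_lit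 0) @(fun x9 => @x9) (@Cfsg.Agent.KO87458c4.k20.{0} _ @x6 @x7)) @x8) @(fun x9 => @x5 (@x9 :: @x6))) @(fun x7 x8 => @Bool.rec.{1} @(fun x9 => @Option.{0} ℕ) (@Option.none.{0} _) (@Cfsg.Agent.KO87458c4.k30 @x0 @x8 @(fun x9 x10 x11 x12 x13 => @x5 (@x9 :: (@x10 :: (@x11 :: (@x12 :: (@x13 :: @x6))))))) (@Bool.rec.{1} @(fun x9 => @Bool) @Bool.false (@Nat.ble (@Nat.succ @x8) (nat_lit 4060)) (@Nat.beq (@Option.rec.{1, 0} ℕ @(fun x9 => ℕ) (nat_lit 0) @(fun x9 => @x9) (@Cfsg.Agent.KO87458c4.k20.{0} _ @x6 @x7)) (@Nat.pow (nat_lit 2) @x8)))) @(fun x7 x8 => @Bool.rec.{1} @(fun x9 => @Option.{0} ℕ) (@Option.none.{0} _) (@Option.rec.{1, 0} ℕ @(fun x9 => @Option.{0} ℕ) (@Option.none.{0} _) @(fun x9 => @Option.some.{0} _ (@Nat.mul (@Cfsg.Agent.KO87458c4.k31 (nat_lit 12) (@Option.rec.{1, 0} ℕ @(fun x10 => ℕ) (nat_lit 0) @(fun x10 => @x10) (@Cfsg.Agent.KO87458c4.k20.{0} _ @x6 @x7))) @x9)) (@Cfsg.Agent.KO87458c4.k30 @x0 @x8 @(fun x9 x10 x11 x12 x13 => @x5 (@x9 :: (@x10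 :: (@x11 :: (@x12 :: (@x13 :: @x6)))))))) (@Bool.rec.{1} @(fun x9 => @Bool) @Bool.false (@Bool.rec.{1} @(fun x9 => @Bool) @Bool.true @Bool.false (@Cfsg.Agent.KO87458c4.k16.{1} @Bool (@Nat.land (nat_lit 1) (@Nat.shiftRight (@Option.rec.{1, 0} ℕ @(fun x9 => ℕ) (nat_lit 0) @(fun x9 => @x9) (@Cfsg.Agent.KO87458c4.k20.{0} _ @x6 @x7)) @x8)) (nat_lit 0) @Bool.false @Bool.true)) (@Nat.ble (@Nat.succ @x8) (nat_lit 4060)))) @x3) @x1 @x2)) ?_); rewrite [← Cfsg.Agent.KO87458c4.e16.{1}, ← Cfsg.Agent.KO87458c4.e31, ← Cfsg.Agent.KO87458c4.e30, ← Cfsg.Agent.KO87458c4.e9, ← Cfsg.Agent.KO87458c4.e25, ← Cfsg.Agent.KO87458c4.e20.{0}, ← Cfsg.Agent.KO87458c4.e0, ← Cfsg.Agent.KO87458c4.e18]; funext a0 a1 a2; refine (congrFun (_root_.Cfsg.Agent.KO87458c4.e17 (fun a1 a2 => @Cfsg.Agent.CpAutRuFive.Eng.run a0 a1 a2) ?_ (fun c0 c1 => ?_) a1) a2 :) <;> [(funext b0; ((try delta Cfsg.Agent.CpAutRuFive.Eng.run Cfsg.Agent.CpAutRuFive.Eng.run._f); (try generalize @Cfsg.Agent.Lib.BitNet.sep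 = g0); (try generalize @Cfsg.Agent.Lib.BitNetSimple.force = g1); (try generalize @Cfsg.Agent.Lib.BitNet.cntSet = g2); (try generalize @Cfsg.Agent.SporadicB.RuData.row = g3); (try generalize @Cfsg.Agent.CpAutRuFive.Eng.orbC = g4); (try generalize @Cfsg.Agent.Lib.BitNet.popc = g5); rfl')); (funext b0; (cases c0 with | @and c0_0 c0_1 => ((try delta Cfsg.Agent.CpAutRuFive.Eng.run Cfsg.Agent.CpAutRuFive.Eng.run._f); (try generalize @Cfsg.Agent.Lib.BitNet.sep = g0); (try generalize @Cfsg.Agent.Lib.BitNetSimple.force = g1); (try generalize @Cfsg.Agent.Lib.BitNet.cntSet = g2); (try generalize @Cfsg.Agent.SporadicB.RuData.row = g3); (try generalize @Cfsg.Agent.CpAutRuFive.Eng.orbC = g4); (try generalize @Cfsg.Agent.Lib.BitNet.popc = g5); rfl') | @diff c0_0 c0_1 => ((try delta Cfsg.Agent.CpAutRuFive.Eng.run Cfsg.Agent.CpAutRuFive.Eng.run._f); (try generalize @Cfsg.Agent.Lib.BitNet.sep = g0); (try generalize @Cfsg.Agent.Lib.BitNetSimple.force = g1); (try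 generalize @Cfsg.Agent.Lib.BitNet.cntSet = g2); (try generalize @Cfsg.Agent.SporadicB.RuData.row = g3); (try generalize @Cfsg.Agent.CpAutRuFive.Eng.orbC = g4); (try generalize @Cfsg.Agent.Lib.BitNet.popc = g5); rfl') | @cnt c0_0 c0_1 => ((try delta Cfsg.Agent.CpAutRuFive.Eng.run Cfsg.Agent.CpAutRuFive.Eng.run._f); (try generalize @Cfsg.Agent.Lib.BitNet.sep = g0); (try generalize @Cfsg.Agent.Lib.BitNetSimple.force = g1); (try generalize @Cfsg.Agent.Lib.BitNet.cntSet = g2); (try generalize @Cfsg.Agent.SporadicB.RuData.row = g3); (try generalize @Cfsg.Agent.CpAutRuFive.Eng.orbC = g4); (try generalize @Cfsg.Agent.Lib.BitNet.popc = g5); rfl') | @pt c0_0 c0_1 => ((try delta Cfsg.Agent.CpAutRuFive.Eng.run Cfsg.Agent.CpAutRuFive.Eng.run._f); (try generalize @Cfsg.Agent.Lib.BitNet.sep = g0); (try generalize @Cfsg.Agent.Lib.BitNetSimple.force = g1); (try generalize @Cfsg.Agent.Lib.BitNet.cntSet = g2); (try generalize @Cfsg.Agent.SporadicB.RuData.row = g3);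 (try generalize @Cfsg.Agent.CpAutRuFive.Eng.orbC = g4); (try generalize @Cfsg.Agent.Lib.BitNet.popc = g5); rfl') | @base c0_0 c0_1 => ((try delta Cfsg.Agent.CpAutRuFive.Eng.run Cfsg.Agent.CpAutRuFive.Eng.run._f); (try generalize @Cfsg.Agent.Lib.BitNet.sep = g0); (try generalize @Cfsg.Agent.Lib.BitNetSimple.force = g1); (try generalize @Cfsg.Agent.Lib.BitNet.cntSet = g2); (try generalize @Cfsg.Agent.SporadicB.RuData.row = g3); (try generalize @Cfsg.Agent.CpAutRuFive.Eng.orbC = g4); (try generalize @Cfsg.Agent.Lib.BitNet.popc = g5); rfl')))]) | exact @Cfsg.Agent.CpAutRuFive.Eng.run | exact ()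
private theorem _root_.Cfsg.Agent.KO87458c4.e33 : (by first | exact @Cfsg.Agent.CpAutRuFive.Eng.run = @_root_.Cfsg.Agent.KO87458c4.k33 | exact True : Prop) := by first | (delta _root_.Cfsg.Agent.KO87458c4.k33; exact @Subtype.property _ (fun g => @Cfsg.Agent.CpAutRuFive.Eng.run = @g) _) | rfl | trivial

theorem runA : run wA insA [MA1, MA2] = some 1000 := by (first | (refine of_decide_eq_true ?_; rewrite [Cfsg.Agent.KO87458c4.e12, Cfsg.Agent.KO87458c4.e13.{0}, Cfsg.Agent.KO87458c4.e15, Cfsg.Agent.KO87458c4.e33]; decide +kernel) | decide +kernel)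
theorem runZ : run wA insZ [MA1, MA2, MZ, MZA] = some 120 := by (first | (refine of_decide_eq_true ?_; rewrite [Cfsg.Agent.KO87458c4.e12, Cfsg.Agent.KO87458c4.e13.{0}, Cfsg.Agent.KO87458c4.e15, Cfsg.Agent.KO87458c4.e33]; decide +kernel) | decide +kernel)
theorem runB : run wB insB [MB1, MB2] = some 300 := by (first | (refine of_decide_eq_true ?_; rewrite [Cfsg.Agent.KO87458c4.e12, Cfsg.Agent.KO87458c4.e13.{0}, Cfsg.Agent.KO87458c4.e15, Cfsg.Agent.KO87458c4.e33]; decide +kernel) | decide +kernel)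

theorem comm_append {x : RuOrder.H} {v w : List ℕ} (hv : x * wprod ml v = wprod ml v * x)
    (hw : x * wprod ml w = wprod ml w * x) : x * wprod ml (v ++ w) = wprod ml (v ++ w) * x := by
  rw [wprod_append, ← mul_assoc, hv, mul_assoc, hw, ← mul_assoc]

/-- `|C(xA)| ≤ 1000` -/
theorem card_A : Nat.card (Cen [wA]) ≤ 1000 := by
  refine card_le_of_run (w := wA) (List.mem_singleton.2 rfl) ?_ runA
  intro m hm
  simp only [List.mem_cons, List.not_mem_nil, or_false] at hm
  have key : ∀ x ∈ Cen [wA], x * wprod ml wA = wprod ml wA * x := fun x hx => hx _ (List.mem_singleton.2 rfl)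
  rcases hm with rfl | rfl
  · exact ⟨wA, key, adjA1⟩
  · exact ⟨wA ++ wA, fun x hx => comm_append (key x hx) (key x hx), adjA2⟩

/-- `|C(xA) ∩ C(z)| ≤ 120` -/
theorem card_Z : Nat.card (Cen [wA, [1, 1]]) ≤ 120 := by
  refine card_le_of_run (w := wA) List.mem_cons_self ?_ runZ
  intro m hm
  simp only [List.mem_cons, List.not_mem_nil, or_false] at hm
  have key : ∀ x ∈ Cen [wA, [1, 1]], x * wprod ml wA = wprod ml wA * x := fun x hx => hx _ List.mem_cons_self
  have key2 : ∀ x ∈ Cen [wA, [1, 1]], x * wprod ml [1, 1] = wprod ml [1, 1] * x := fun x hx =>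
    hx _ (List.mem_cons_of_mem _ (List.mem_singleton.2 rfl))
  rcases hm with rfl | rfl | rfl | rfl
  · exact ⟨wA, key, adjA1⟩
  · exact ⟨wA ++ wA, fun x hx => comm_append (key x hx) (key x hx), adjA2⟩
  · exact ⟨[1, 1], key2, adjZ⟩
  · exact ⟨[1, 1] ++ wA, fun x hx => comm_append (key2 x hx) (key x hx), adjZA⟩

/-- `|C(xB)| ≤ 300` -/
theorem card_B : Nat.card (Cen [wB]) ≤ 300 := by
  refine card_le_of_run (w := wB) (List.mem_singleton.2 rfl) ?_ runB
  intro m hm
  simp only [List.mem_cons, List.not_mem_nil, or_false] at hm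
  have key : ∀ x ∈ Cen [wB], x * wprod ml wB = wprod ml wB * x := fun x hx => hx _ (List.mem_singleton.2 rfl)
  rcases hm with rfl | rfl
  · exact ⟨wB, key, adjB1⟩
  · exact ⟨wB ++ wB, fun x hx => comm_append (key x hx) (key x hx), adjB2⟩

end Cfsg.Agent.CpAutRuFive.Cert
end
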